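import Mathlib.LinearAlgebra.Matrix.SpecialLinearGroup
import Mathlib.LinearAlgebra.Matrix.NonsingularInverse
import Mathlib.RingTheory.RootsOfUnity.PrimitiveRoots
import Mathlib.Tactic.LinearCombination
import Mathlib.Tactic.FinCases

/-!
# The matrix `[[c, c² - 1], [1, c]]` with eigenvalues `ξ`, `ξ⁻¹`
-/

open Matrix

namespace Groth.Agent.McKayLib

variable {K : Type*} {L : Type*} [Field K] [Field L] [Algebra K L]

/-- The rotation matrix. -/
def rot (c : K) : Matrix.SpecialLinearGroup (Fin 2) K :=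
  ⟨!![c, c ^ 2 - 1; 1, c], by rw [Matrix.det_fin_two_of]; ring⟩

variable {ξ : L} {c : K}

theorem rot_pow_spec (hξ : ξ ≠ 0) (hne : ξ ≠ ξ⁻¹) (hc : algebraMap K L (2 * c) = ξ + ξ⁻¹) :
    (∀ m : ℕ, rot c ^ m = 1 ↔ ξ ^ m = 1) ∧
      ∀ m : ℕ, ξ ^ m = -1 → ((rot c ^ m : Matrix.SpecialLinearGroup (Fin 2) K) : Matrix (Fin 2) (Fin 2) K) = -1 := by
  set a := algebraMap K L c with ha
  have ha2 : 2 * a = ξ + ξ⁻¹ := by rw [ha, ← hc, map_mul, map_ofNat]
  let A : Matrix (Fin 2) (Fin 2) L := (rot c : Matrix (Fin 2) (Fin 2) K).map (algebraMap K L)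
  have hA : A = !![a, a ^ 2 - 1; 1, a] := by
    ext i j; fin_cases i <;> fin_cases j <;> simp [A, rot, ha]
  let P : Matrix (Fin 2) (Fin 2) L := !![ξ - a, ξ⁻¹ - a; 1, 1]
  let D : Matrix (Fin 2) (Fin 2) L := Matrix.diagonal ![ξ, ξ⁻¹]
  have hinv : ξ * ξ⁻¹ = 1 := mul_inv_cancel₀ hξ
  have hAP : A * P = P * D := by
    rw [hA]
    ext i j
    fin_cases i <;> fin_cases j <;>
      simp [P, D, Matrix.mul_apply, Fin.sum_univ_two, Matrix.diagonal]
    · linear_combination ξ * ha2 + hinv
    · linear_combination ξ⁻¹ * ha2 + hinv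
  have hP : IsUnit P.det := by
    simp only [P, Matrix.det_fin_two_of, isUnit_iff_ne_zero]
    intro h
    exact hne (by linear_combination h)
  have hpow : ∀ m : ℕ, A ^ m * P = P * D ^ m := by
    intro m
    induction m with
    | zero => simp
    | succ m ih => rw [pow_succ, pow_succ, mul_assoc, hAP, ← mul_assoc, ih, mul_assoc]
  have hmap : ∀ m : ℕ, ((rot c ^ m : Matrix.SpecialLinearGroup (Fin 2) K) :
      Matrix (Fin 2) (Fin 2) K).map (algebraMap K L) = A ^ m := fun m => by
    rw [Matrix.SpecialLinearGroup.coe_pow]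
    exact map_pow (algebraMap K L).mapMatrix _ m
  have hinj := Matrix.map_injective (m := Fin 2) (n := Fin 2) (algebraMap K L).injective
  constructor
  · intro m
    constructor
    · intro h
      have := hpow m
      rw [← hmap m, h, Matrix.SpecialLinearGroup.coe_one, Matrix.map_one _ (map_zero _) (map_one _),
        one_mul] at this
      have h2 : D ^ m = 1 := ((Matrix.isUnit_iff_isUnit_det P).mpr hP).mul_left_cancel
        (this.symm.trans (mul_one P).symm)
      have h3 := congrFun (congrFun h2 0) 0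
      simpa [D, Matrix.diagonal_pow] using h3
    · intro h
      have hD : D ^ m = 1 := by
        ext i j
        fin_cases i <;> fin_cases j <;> simp [D, Matrix.diagonal_pow, inv_pow, h]
      have hA1 : A ^ m = 1 := ((Matrix.isUnit_iff_isUnit_det P).mpr hP).mul_right_cancel (by
        rw [hpow, hD, mul_one, one_mul])
      apply Subtype.ext
      apply hinj
      simp only []
      rw [hmap, hA1]
      simp
  · intro m h
    have hD : D ^ m = -1 := by
      ext i j
      fin_cases i <;> fin_cases j <;> simp [D, Matrix.diagonal_pow, inv_pow, h]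
    have hA1 : A ^ m = -1 := ((Matrix.isUnit_iff_isUnit_det P).mpr hP).mul_right_cancel (by
      rw [hpow, hD, mul_neg, mul_one, neg_mul, one_mul])
    apply hinj
    simp only []
    rw [hmap, hA1]
    ext i j
    fin_cases i <;> fin_cases j <;> simp

end Groth.Agent.McKayLib
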